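import Mathlib

/-! Generated data: members, lines and relators for the quadrangles of order (4,2) and (4,8). -/

set_option autoImplicit false
set_option maxRecDepth 100000

namespace CfsgLib.FischerGQ.Data

/-- six transvection vectors of `SU_4(2)` -/
def gens4 : List (List ℕ) := [[0,0,1,1],[0,0,1,2],[1,1,1,1],[1,2,0,0],[1,1,0,0],[1,1,2,2]]

/-- seven transvection vectors of `SU_5(2)` -/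
def gens5 : List (List ℕ) := [[0,0,1,1,0],[0,0,1,2,0],[1,1,1,1,0],[1,2,0,0,0],[1,1,0,0,0],[1,1,2,2,0],[0,1,0,0,1]]

/-- the transvection vectors of the 45 members -/
def pts45 : List (List ℕ) := [[0,0,1,1],[0,0,1,2],[1,1,1,1],[1,2,0,0],[1,1,0,0],[1,1,2,2],[0,0,1,3],[1,1,3,2],[1,1,1,3],[1,3,2,2],[1,3,0,0],[1,3,3,3],[1,1,2,3],[1,1,3,1],[1,3,1,3],[1,1,1,2],[1,3,2,1],[1,2,3,3],[1,2,2,2],[1,2,1,1],[1,3,3,1],[1,1,2,1],[1,3,1,2],[1,2,2,1],[1,0,0,1],[1,3,2,3],[0,1,2,0],[1,2,3,2],[1,3,1,1],[1,2,1,3],[1,2,1,2],[1,0,1,0],[1,1,3,3],[1,3,3,2],[0,1,0,2],[1,2,2,3],[0,1,0,1],[1,0,3,0],[0,1,0,3],[1,2,3,1],[1,0,2,0],[0,1,1,0],[1,0,0,2],[0,1,3,0],[1,0,0,3]]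

/-- words for the 45 members -/
def words45 : List (List ℕ) := [[0],[1],[2],[3],[4],[5],[1,0,1],[2,1,2],[5,1,5],[3,2,3],[4,3,4],[5,3,5],[2,1,0,1,2],[5,1,0,1,5],[3,2,1,2,3],[5,2,1,2,5],[3,5,1,5,3],[4,3,2,3,4],[5,3,2,3,5],[5,4,3,4,5],[3,2,1,0,1,2,3],[5,2,1,0,1,2,5],[3,5,1,0,1,5,3],[4,3,2,1,2,3,4],[5,3,2,1,2,3,5],[3,5,2,1,2,5,3],[2,3,5,1,5,3,2],[4,3,5,1,5,3,4],[5,4,3,2,3,4,5],[1,5,3,2,3,5,1],[4,3,2,1,0,1,2,3,4],[5,3,2,1,0,1,2,3,5],[1,5,2,1,0,1,2,5,1],[3,5,2,1,0,1,2,5,3],[2,3,5,1,0,1,5,3,2],[4,3,5,1,0,1,5,3,4],[5,4,3,2,1,2,3,4,5],[1,5,3,2,1,2,3,5,1],[3,5,3,2,1,2,3,5,3],[4,3,5,2,1,2,5,3,4],[4,2,3,5,1,5,3,2,4],[5,4,3,2,1,0,1,2,3,4,5],[1,5,3,2,1,0,1,2,3,5,1],[3,5,3,2,1,0,1,2,3,5,3],[2,3,5,2,1,0,1,2,5,3,2]]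

/-- bit masks of commuting -/
def mask45 : List ℕ := [4564323901,585228137498,2275285155893,585869688907,4297110007,5553598300213,9271592408,13349835375568,20102601247184,14569879641729,8897252931,20032130133761,18966651269650,9002403084306,17672784008260,6625792667666,9955751584864,17746873962633,7773927407625,9073140375817,2353706173574,1718375154128,4675312551202,3574110097996,11545236545540,27561383166978,22540481351712,4604955732072,569974492673,26412882886728,13850195804814,364808552708,27363807068213,7572027720768,1291444256928,21493090158890,1309061441540,1060992329856,2076629799680,1010745475082,1494692991520,24232231995652,15403032281760,30792282088064,28626594715904]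

/-- words for the 165 members -/
def words165 : List (List ℕ) := [[0],[1],[2],[3],[4],[5],[6],[1,0,1],[2,1,2],[5,1,5],[3,2,3],[6,2,6],[4,3,4],[5,3,5],[6,3,6],[6,4,6],[6,5,6],[2,1,0,1,2],[5,1,0,1,5],[3,2,1,2,3],[5,2,1,2,5],[6,2,1,2,6],[3,5,1,5,3],[6,5,1,5,6],[4,3,2,3,4],[5,3,2,3,5],[6,3,2,3,6],[3,6,2,6,3],[4,6,2,6,4],[5,6,2,6,5],[5,4,3,4,5],[6,4,3,4,6],[6,5,3,5,6],[2,6,3,6,2],[4,6,3,6,4],[5,6,3,6,5],[3,6,4,6,3],[5,6,4,6,5],[3,6,5,6,3],[3,2,1,0,1,2,3],[5,2,1,0,1,2,5],[6,2,1,0,1,2,6],[3,5,1,0,1,5,3],[6,5,1,0,1,5,6],[4,3,2,1,2,3,4],[5,3,2,1,2,3,5],[6,3,2,1,2,3,6],[3,5,2,1,2,5,3],[6,5,2,1,2,5,6],[3,6,2,1,2,6,3],[4,6,2,1,2,6,4],[5,6,2,1,2,6,5],[2,3,5,1,5,3,2],[4,3,5,1,5,3,4],[6,3,5,1,5,3,6],[2,6,5,1,5,6,2],[3,6,5,1,5,6,3],[4,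6,5,1,5,6,4],[5,4,3,2,3,4,5],[6,4,3,2,3,4,6],[1,5,3,2,3,5,1],[6,5,3,2,3,5,6],[4,6,3,2,3,6,4],[5,3,6,2,6,3,5],[5,4,6,2,6,4,5],[1,5,6,2,6,5,1],[3,5,6,2,6,5,3],[1,2,6,3,6,2,1],[1,5,6,3,6,5,1],[4,3,2,1,0,1,2,3,4],[5,3,2,1,0,1,2,3,5],[6,3,2,1,0,1,2,3,6],[1,5,2,1,0,1,2,5,1],[3,5,2,1,0,1,2,5,3],[6,5,2,1,0,1,2,5,6],[3,6,2,1,0,1,2,6,3],[4,6,2,1,0,1,2,6,4],[5,6,2,1,0,1,2,6,5],[2,3,5,1,0,1,5,3,2],[4,3,5,1,0,1,5,3,4],[6,3,5,1,0,1,5,3,6],[2,6,5,1,0,1,5,6,2],[3,6,5,1,0,1,5,6,3],[4,6,5,1,0,1,5,6,4],[5,4,3,2,1,2,3,4,5],[6,4,3,2,1,2,3,4,6],[1,5,3,2,1,2,3,5,1],[3,5,3,2,1,2,3,5,3],[2,6,3,2,1,2,3,6,2],[4,6,3,2,1,2,3,6,4],[4,3,5,2,1,2,5,3,4],[6,3,5,2,1,2,5,3,6],[2,6,5,2,1,2,5,6,2],[3,6,5,2,1,2,5,6,3],[4,6,5,2,1,2,5,6,4],[5,6,5,2,1,2,5,6,5],[2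,3,6,2,1,2,6,3,2],[5,3,6,2,1,2,6,3,5],[3,4,6,2,1,2,6,4,3],[5,4,6,2,1,2,6,4,5],[3,5,6,2,1,2,6,5,3],[4,2,3,5,1,5,3,2,4],[6,2,3,5,1,5,3,2,6],[6,4,3,5,1,5,3,4,6],[2,6,3,5,1,5,3,6,2],[5,6,3,5,1,5,3,6,5],[4,2,6,5,1,5,6,2,4],[4,3,6,5,1,5,6,3,4],[5,3,6,5,1,5,6,3,5],[4,6,4,3,2,3,4,6,4],[0,1,2,6,3,6,2,1,0],[5,1,2,6,3,6,2,1,5],[0,1,5,6,3,6,5,1,0],[2,1,5,6,3,6,5,1,2],[5,4,3,2,1,0,1,2,3,4,5],[6,4,3,2,1,0,1,2,3,4,6],[1,5,3,2,1,0,1,2,3,5,1],[3,5,3,2,1,0,1,2,3,5,3],[2,6,3,2,1,0,1,2,3,6,2],[2,3,5,2,1,0,1,2,5,3,2],[2,6,5,2,1,0,1,2,5,6,2],[5,6,5,2,1,0,1,2,5,6,5],[3,4,6,2,1,0,1,2,6,4,3],[5,4,6,2,1,0,1,2,6,4,5],[1,5,6,2,1,0,1,2,6,5,1],[3,5,6,2,1,0,1,2,6,5,3],[6,2,3,5,1,0,1,5,3,2,6],[6,4,3,5,1,0,1,5,3,4,6],[5,3,6,5,1,0,1,5,6,3,5],[6,5,4,3,2,1,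2,3,4,5,6],[2,6,4,3,2,1,2,3,4,6,2],[4,6,4,3,2,1,2,3,4,6,4],[5,6,4,3,2,1,2,3,4,6,5],[6,3,5,3,2,1,2,3,5,3,6],[4,2,6,3,2,1,2,3,6,2,4],[3,6,3,5,2,1,2,5,3,6,3],[5,6,3,5,2,1,2,5,3,6,5],[3,2,6,5,2,1,2,5,6,2,3],[2,3,6,5,2,1,2,5,6,3,2],[1,5,3,6,2,1,2,6,3,5,1],[3,5,3,6,2,1,2,6,3,5,3],[6,5,3,6,2,1,2,6,3,5,6],[2,3,4,6,2,1,2,6,4,3,2],[2,3,5,6,2,1,2,6,5,3,2],[2,6,2,3,5,1,5,3,2,6,2],[5,6,2,3,5,1,5,3,2,6,5],[5,6,4,3,5,1,5,3,4,6,5],[3,2,6,3,5,1,5,3,6,2,3],[3,4,2,6,5,1,5,6,2,4,3],[5,0,1,2,6,3,6,2,1,0,5],[6,5,1,2,6,3,6,2,1,5,6],[2,0,1,5,6,3,6,5,1,0,2],[3,2,1,5,6,3,6,5,1,2,3],[2,6,4,3,2,1,0,1,2,3,4,6,2],[5,6,4,3,2,1,0,1,2,3,4,6,5],[6,3,5,3,2,1,0,1,2,3,5,3,6],[3,2,6,5,2,1,0,1,2,5,6,2,3],[2,3,4,6,2,1,0,1,2,6,4,3,2],[5,6,4,3,5,1,0,1,5,3,4,6,5],[2,6,3,5,3,2,1,2,3,5,3,6,2],[5,6,3,5,3,2,1,2,3,5,3,6,5],[2,3,2,6,5,2,1,2,5,6,2,3,2],[5,3,2,6,5,2,1,2,5,6,2,3,5],[2,3,5,3,6,2,1,2,6,3,5,3,2],[5,2,6,2,3,5,1,5,3,2,6,2,5]]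

/-- a line meeting the two planes through the first two members -/
def line45 : List ℕ := [21,24,26,28,39]

/-- two lines through the first member, without it -/
def lineA : List ℕ := [2,4,5,32]

/-- two lines through the first member, without it -/
def lineB : List ℕ := [3,17,18,19]

/-- the nine members commuting with the seventh letter -/
def ovoid : List ℕ := [0,1,6,24,31,37,40,42,44]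

/-- a commuting one of the nine for each member -/
def cover45 : List ℕ := [0,1,0,0,0,0,6,6,6,0,0,0,1,1,6,1,6,0,0,0,1,6,1,6,24,1,24,6,0,6,1,31,0,6,31,1,31,37,31,1,40,24,42,24,44]

/-- relators of `S_6` -/
def rels6 : List (List ℕ) := [[0,0],[1,1],[2,2],[3,3],[4,4],[0,1,0,1,0,1],[0,2,0,2],[0,3,0,3],[0,4,0,4],[1,2,1,2,1,2],[1,3,1,3],[1,4,1,4],[2,3,2,3,2,3],[2,4,2,4],[3,4,3,4,3,4]]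

/-- relators of `SU_4(2)` -/
def rels4 : List (List ℕ) := [[0,0],[1,1],[2,2],[3,3],[4,4],[5,5],[0,1,0,1,0,1],[0,2,0,2],[0,3,0,3],[0,4,0,4],[0,5,0,5],[1,2,1,2,1,2],[1,3,1,3],[1,4,1,4],[1,5,1,5,1,5],[2,3,2,3,2,3],[2,4,2,4],[2,5,2,5],[3,4,3,4,3,4],[3,5,3,5,3,5],[4,5,4,5],[1,2,1,0,1,0,5,0,1,0,1,2,1,0,2,4,5]]

/-- relators tying the seventh letter to the 45 members -/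
def relsPat : List (List ℕ) := [[6,6],[6,0,6,0],[6,1,6,1],[6,2,6,2,6,2],[6,3,6,3,6,3],[6,4,6,4,6,4],[6,5,6,5,6,5],[6,1,0,1,6,1,0,1],[6,2,1,2,6,2,1,2,6,2,1,2],[6,5,1,5,6,5,1,5,6,5,1,5],[6,3,2,3,6,3,2,3,6,3,2,3],[6,4,3,4,6,4,3,4,6,4,3,4],[6,5,3,5,6,5,3,5,6,5,3,5],[6,2,1,0,1,2,6,2,1,0,1,2,6,2,1,0,1,2],[6,5,1,0,1,5,6,5,1,0,1,5,6,5,1,0,1,5],[6,3,2,1,2,3,6,3,2,1,2,3,6,3,2,1,2,3],[6,5,2,1,2,5,6,5,2,1,2,5,6,5,2,1,2,5],[6,3,5,1,5,3,6,3,5,1,5,3,6,3,5,1,5,3],[6,4,3,2,3,4,6,4,3,2,3,4,6,4,3,2,3,4],[6,5,3,2,3,5,6,5,3,2,3,5,6,5,3,2,3,5],[6,5,4,3,4,5,6,5,4,3,4,5,6,5,4,3,4,5],[6,3,2,1,0,1,2,3,6,3,2,1,0,1,2,3,6,3,2,1,0,1,2,3],[6,5,2,1,0,1,2,5,6,5,2,1,0,1,2,5,6,5,2,1,0,1,2,5],[6,3,5,1,0,1,5,3,6,3,5,1,0,1,5,3,6,3,5,1,0,1,5,3],[6,4,3,2,1,2,3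,4,6,4,3,2,1,2,3,4,6,4,3,2,1,2,3,4],[6,5,3,2,1,2,3,5,6,5,3,2,1,2,3,5],[6,3,5,2,1,2,5,3,6,3,5,2,1,2,5,3,6,3,5,2,1,2,5,3],[6,2,3,5,1,5,3,2,6,2,3,5,1,5,3,2,6,2,3,5,1,5,3,2],[6,4,3,5,1,5,3,4,6,4,3,5,1,5,3,4,6,4,3,5,1,5,3,4],[6,5,4,3,2,3,4,5,6,5,4,3,2,3,4,5,6,5,4,3,2,3,4,5],[6,1,5,3,2,3,5,1,6,1,5,3,2,3,5,1,6,1,5,3,2,3,5,1],[6,4,3,2,1,0,1,2,3,4,6,4,3,2,1,0,1,2,3,4,6,4,3,2,1,0,1,2,3,4],[6,5,3,2,1,0,1,2,3,5,6,5,3,2,1,0,1,2,3,5],[6,1,5,2,1,0,1,2,5,1,6,1,5,2,1,0,1,2,5,1,6,1,5,2,1,0,1,2,5,1],[6,3,5,2,1,0,1,2,5,3,6,3,5,2,1,0,1,2,5,3,6,3,5,2,1,0,1,2,5,3],[6,2,3,5,1,0,1,5,3,2,6,2,3,5,1,0,1,5,3,2,6,2,3,5,1,0,1,5,3,2],[6,4,3,5,1,0,1,5,3,4,6,4,3,5,1,0,1,5,3,4,6,4,3,5,1,0,1,5,3,4],[6,5,4,3,2,1,2,3,4,5,6,5,4,3,2,1,2,3,4,5,6,5,4,3,2,1,2,3,4,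5],[6,1,5,3,2,1,2,3,5,1,6,1,5,3,2,1,2,3,5,1],[6,3,5,3,2,1,2,3,5,3,6,3,5,3,2,1,2,3,5,3,6,3,5,3,2,1,2,3,5,3],[6,4,3,5,2,1,2,5,3,4,6,4,3,5,2,1,2,5,3,4,6,4,3,5,2,1,2,5,3,4],[6,4,2,3,5,1,5,3,2,4,6,4,2,3,5,1,5,3,2,4],[6,5,4,3,2,1,0,1,2,3,4,5,6,5,4,3,2,1,0,1,2,3,4,5,6,5,4,3,2,1,0,1,2,3,4,5],[6,1,5,3,2,1,0,1,2,3,5,1,6,1,5,3,2,1,0,1,2,3,5,1],[6,3,5,3,2,1,0,1,2,3,5,3,6,3,5,3,2,1,0,1,2,3,5,3,6,3,5,3,2,1,0,1,2,3,5,3],[6,2,3,5,2,1,0,1,2,5,3,2,6,2,3,5,2,1,0,1,2,5,3,2]]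

/-- the three possible equations on the line of the seventh letter -/
def eqs5 : List (List ℕ) := [[2,4,6,4,2,3,4,3,2,3,4,6,4,3,2,3,4,3],[2,4,6,4,2,3,5,3,2,3,5,6,5,3,2,3,5,3],[2,4,6,4,2,3,5,4,3,4,5,6,5,4,3,4,5,3]]

/-- conjugation of the 45 members by the letters -/
def next45 : List (List ℕ) := [[0,6,2,3,4,5,1,12,13,9,10,11,7,8,20,21,22,17,18,19,14,15,16,30,31,33,34,35,28,39,23,24,32,25,26,27,41,44,43,29,42,36,40,38,37],[6,1,7,3,4,8,0,2,5,14,10,16,12,13,9,15,11,23,29,27,20,32,22,17,37,25,38,19,33,18,30,42,21,28,41,35,43,24,26,39,44,34,31,36,40],[0,7,2,9,4,5,12,1,15,3,17,18,6,21,14,8,26,10,11,28,20,13,34,23,24,37,16,40,19,38,30,31,32,44,22,42,36,25,29,43,27,41,35,39,33],[0,1,9,3,10,11,6,14,16,2,4,5,20,22,7,25,8,17,18,19,12,33,13,23,38,15,37,27,32,29,30,43,28,21,44,35,42,26,24,39,41,40,36,31,34],[0,1,2,10,4,5,6,7,8,17,3,19,12,13,23,15,27,9,28,11,30,21,35,14,36,39,40,16,18,33,20,41,32,29,42,22,24,43,44,25,26,31,34,37,38],[0,8,2,11,4,5,13,15,1,18,19,3,21,6,24,7,16,28,9,10,31,12,22,36,14,38,26,27,17,37,41,20,32,43,34,35,23,29,25,44,40,30,42,33,39]]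

/-- third points generating the nine from two starts -/
def seq24 : List (List ℕ) := [[0,1,6],[0,24,31],[1,24,37],[1,31,42],[24,6,40],[24,42,44]]

/-- third points generating the nine from two starts -/
def seq37 : List (List ℕ) := [[0,1,6],[0,37,44],[1,37,24],[1,44,40],[37,6,42],[37,40,31]]

/-- the five standard transvections as words -/
def std5 : List (List ℕ) := [[6,2,1,0,1,2,6],[6,4,3,2,3,4,6],[4,3,6,5,1,5,6,3,4],[5,3,2,3,5],[5,4,3,4,5]]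

/-- the transvection vectors of the 165 members -/
def pts165 : List (List ℕ) := [[0,0,1,1,0],[0,0,1,2,0],[1,1,1,1,0],[1,2,0,0,0],[1,1,0,0,0],[1,1,2,2,0],[0,1,0,0,1],[0,0,1,3,0],[1,1,3,2,0],[1,1,1,3,0],[1,3,2,2,0],[1,0,1,1,1],[1,3,0,0,0],[1,3,3,3,0],[1,0,0,0,2],[1,0,0,0,1],[1,0,2,2,1],[1,1,2,3,0],[1,1,3,1,0],[1,3,1,3,0],[1,1,1,2,0],[1,0,3,2,1],[1,3,2,1,0],[1,0,1,3,1],[1,2,3,3,0],[1,2,2,2,0],[1,0,2,2,3],[0,1,3,3,3],[0,1,1,1,1],[0,1,3,3,1],[1,2,1,1,0],[1,0,0,0,3],[1,0,3,3,3],[0,1,1,1,2],[0,1,0,0,2],[0,1,2,2,2],[0,1,0,0,3],[0,1,2,2,1],[0,1,1,1,3],[1,3,3,1,0],[1,1,2,1,0],[1,0,2,3,1],[1,3,1,2,0],[1,0,3,1,1],[1,2,2,1,0],[1,0,0,1,0],[1,0,1,3,3],[1,3,2,3,0],[1,0,1,2,1],[0,1,2,1,3],[0,1,3,2,1],[1,3,0,2,2],[0,1,2,0,0],[1,2,3,2,0]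,[1,0,2,1,3],[1,2,1,0,3],[0,1,3,2,3],[0,1,1,3,1],[1,3,1,1,0],[1,0,3,3,2],[1,2,1,3,0],[1,0,2,2,2],[0,1,2,2,3],[1,0,1,1,3],[1,0,3,3,1],[0,1,2,1,1],[1,0,1,1,2],[0,1,3,2,2],[0,1,1,3,2],[1,2,1,2,0],[1,0,1,0,0],[1,0,3,1,3],[1,1,3,3,0],[1,3,3,2,0],[1,0,2,1,1],[0,1,1,2,3],[0,1,2,3,1],[1,3,2,0,2],[0,1,0,2,0],[1,2,2,3,0],[1,0,1,2,3],[1,2,0,1,3],[0,1,2,3,3],[0,1,3,1,1],[0,1,0,1,0],[1,0,2,1,2],[1,0,3,0,0],[0,1,0,3,0],[1,2,1,0,2],[0,1,1,3,3],[1,2,3,1,0],[1,0,2,3,3],[1,3,1,0,2],[0,1,3,1,3],[0,1,1,2,1],[1,2,0,2,3],[1,2,0,2,2],[1,3,1,0,1],[1,0,1,3,2],[1,2,0,3,3],[1,1,0,1,1],[1,0,2,0,0],[0,0,1,0,3],[1,0,3,2,2],[1,3,0,1,1],[1,2,2,0,2],[1,3,3,0,2],[1,0,3,2,3],[1,2,0,3,2],[0,1,3,3,2],[0,1,2,3,2],[1,2,0,3,1],[0,1,3,1,2],[1,3,3,0,3],[0,1,1,0,0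],[1,0,1,2,2],[1,0,0,2,0],[0,1,3,0,0],[1,2,0,1,2],[1,0,0,3,0],[1,3,0,1,2],[1,2,2,0,3],[1,0,3,1,2],[1,2,3,0,3],[1,3,0,3,2],[1,1,1,0,1],[0,0,0,1,3],[1,0,2,3,2],[1,2,3,0,2],[0,0,0,1,1],[1,3,0,1,3],[0,1,2,1,2],[1,2,2,0,1],[0,0,0,1,2],[1,3,3,0,1],[0,1,1,2,2],[1,3,2,0,1],[1,1,3,0,1],[1,3,0,3,1],[1,3,0,2,1],[1,1,3,0,3],[1,1,1,0,3],[1,2,1,0,1],[0,0,1,0,1],[1,1,0,1,3],[1,1,0,2,1],[1,3,0,2,3],[1,1,0,3,3],[1,1,2,0,1],[1,2,3,0,1],[1,1,0,3,2],[1,3,0,3,3],[1,1,2,0,2],[1,3,1,0,3],[1,2,0,2,1],[0,0,1,0,2],[1,1,0,3,1],[1,2,0,1,1],[1,3,2,0,3],[1,1,1,0,2],[1,1,2,0,3],[1,1,0,2,3],[1,1,0,1,2],[1,1,0,2,2],[1,1,3,0,2]]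

end CfsgLib.FischerGQ.Data
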